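import Cfsg.Agent.H134.Cos.Exc
import Cfsg.Agent.H135.TwoGenTab

/-!
# Tables for `D₄` (helper237, for S4180)

The index `j < 6` runs through the symmetries of the Dynkin diagram of `D₄` (`piD4`): the identity, `(2 3)`, `(0 2)`,
the two rotations (`3`, `4`) and `(0 3)`.
-/

set_option autoImplicit false
set_option maxRecDepth 4000

namespace Cfsg.Agent.H237.D4C

open Cfsg.Lie Cfsg.Agent.ChevalleyStructure.Elts Cfsg.Agent.H134.Cos Cfsg.Agent.H135.TwoG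
open Cfsg.Agent.H70.RootCoeffTab

theorem hD4 : InList chevD4 := by simp [InList]

/-- the symmetries -/
def sym (j : ℕ) : Equiv.Perm (Fin chevD4.rank) := piD4.getD j 1

/-- the symmetries as permutations of the roots -/
def PTab : List (List ℕ) :=
  [[0, 1, 2, 3, 4, 5, 6, 7, 8, 9, 10, 11, 12, 13, 14, 15, 16, 17, 18, 19, 20, 21, 22, 23],
   [0, 1, 3, 2, 4, 5, 6, 8, 7, 9, 11, 10, 13, 12, 14, 16, 15, 17, 18, 19, 21, 20, 22, 23],
   [0, 1, 2, 6, 7, 10, 3, 4, 8, 9, 5, 11, 12, 18, 14, 15, 19, 20, 13, 16, 17, 21, 22, 23],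
   [0, 1, 6, 2, 7, 10, 3, 8, 4, 9, 11, 5, 18, 12, 14, 19, 15, 20, 13, 16, 21, 17, 22, 23],
   [0, 1, 3, 6, 8, 11, 2, 4, 7, 9, 5, 10, 13, 18, 14, 16, 19, 21, 12, 15, 17, 20, 22, 23],
   [0, 1, 6, 3, 8, 11, 2, 7, 4, 9, 10, 5, 18, 13, 14, 19, 16, 21, 12, 15, 20, 17, 22, 23]]

/-- the symmetries as permutations of the roots -/
def PJ (j s : ℕ) : ℕ := (PTab.getD j []).getD s 0

theorem ext_PJ : ∀ j < 6, Ext chevD4 (sym j) (PJ j) := by decide +kernel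

/-- the words -/
def wJ (j : ℕ) : List ℕ := ([[], [1, 2, 0], [1, 3, 0], [0, 1], [0, 1], [1, 2, 0]] : List (List ℕ)).getD j []

/-- the permutations of the roots, word times symmetry -/
def WTab : List (List ℕ) :=
  [[0, 1, 2, 3, 4, 5, 6, 7, 8, 9, 10, 11, 12, 13, 14, 15, 16, 17, 18, 19, 20, 21, 22, 23],
   [1, 11, 6, 14, 10, 19, 3, 0, 5, 2, 8, 16, 7, 15, 21, 18, 23, 20, 4, 13, 9, 17, 12, 22],
   [1, 10, 6, 2, 0, 7, 14, 11, 5, 3, 19, 15, 8, 4, 20, 18, 12, 9, 16, 23, 21, 17, 13, 22],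
   [6, 0, 1, 7, 10, 2, 8, 11, 18, 19, 3, 9, 14, 20, 4, 5, 12, 15, 21, 13, 16, 22, 23, 17],
   [6, 0, 8, 1, 11, 3, 7, 18, 10, 19, 9, 2, 21, 14, 4, 13, 5, 16, 20, 12, 22, 15, 23, 17],
   [1, 11, 3, 6, 0, 8, 14, 5, 10, 2, 16, 19, 4, 7, 21, 13, 18, 9, 15, 23, 17, 20, 12, 22]]

/-- the permutations of the roots, word times symmetry -/
def WJ (j s : ℕ) : ℕ := (WTab.getD j []).getD s 0

/-- the roots `a`, fixed by all symmetries -/
def aJ (j : ℕ) : ℕ := ([0, 1, 1, 0, 0, 1] : List ℕ).getD j 0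

/-- the preimages of the roots `a` -/
def aJ' (j : ℕ) : ℕ := ([0, 0, 0, 1, 1, 0] : List ℕ).getD j 0

/-- the roots `b` -/
def bJ (j : ℕ) : ℕ := ([0, 4, 4, 5, 5, 4] : List ℕ).getD j 0

/-- the preimages of the roots `b` -/
def bJ' (j : ℕ) : ℕ := ([0, 18, 13, 15, 16, 12] : List ℕ).getD j 0

/-- closure steps from `a` -/
def sATab : List (List (ℕ × ℕ)) :=
  [[],
   [(1, 1), (11, 11), (16, 16), (23, 23), (22, 22), (12, 12), (7, 7), (0, 16), (3, 3), (14, 14), (21, 21), (17, 17), (20,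
  20), (9, 9), (2, 2), (0, 17), (4, 4), (10, 10), (8, 8), (5, 5), (19, 19), (13, 13), (15, 15)],
   [(1, 1), (10, 10), (19, 19), (23, 23), (22, 22), (13, 13), (4, 4), (0, 19), (6, 6), (14, 14), (20, 20), (21, 21), (17,
  17), (9, 9), (3, 3), (0, 20), (7, 7), (11, 11), (15, 15), (18, 18), (16, 16), (12, 12), (8, 8)],
   [(0, 0), (6, 6), (8, 8), (18, 18), (21, 21), (22, 22), (23, 23), (17, 17), (15, 15), (5, 5), (2, 2), (0, 17), (4, 4),
  (10, 10), (3, 3), (7, 7), (11, 11), (9, 9), (19, 19), (13, 13), (20, 20), (16, 16), (12, 12)],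
   [(0, 0), (6, 6), (7, 7), (18, 18), (20, 20), (22, 22), (23, 23), (17, 17), (16, 16), (5, 5), (3, 3), (0, 17), (4, 4),
  (11, 11), (2, 2), (8, 8), (10, 10), (9, 9), (19, 19), (12, 12), (21, 21), (15, 15), (13, 13)],
   [(1, 1), (11, 11), (19, 19), (23, 23), (22, 22), (12, 12), (4, 4), (0, 19), (6, 6), (14, 14), (21, 21), (20, 20), (17,
  17), (9, 9), (2, 2), (0, 20), (7, 7), (5, 5), (8, 8), (10, 10), (16, 16), (18, 18), (15, 15)]]

/-- closure steps from `b` -/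
def sBTab : List (List (ℕ × ℕ)) :=
  [[],
   [(4, 4), (10, 10), (8, 8), (5, 5), (19, 19), (13, 13), (15, 15), (4, 10), (2, 2), (6, 6), (3, 3), (14, 14), (21, 21),
  (17, 17), (20, 20), (2, 8), (0, 0), (1, 1), (11, 11), (16, 16), (23, 23), (22, 22), (12, 12)],
   [(4, 4), (0, 0), (1, 1), (10, 10), (19, 19), (23, 23), (22, 22), (0, 19), (6, 6), (14, 14), (20, 20), (21, 21), (17,
  17), (9, 9), (3, 3), (0, 20), (7, 7), (11, 11), (15, 15), (18, 18), (16, 16), (12, 12), (8, 8)],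
   [(5, 5), (2, 2), (1, 1), (0, 0), (6, 6), (8, 8), (18, 18), (21, 21), (22, 22), (23, 23), (17, 17), (0, 17), (4, 4),
  (10, 10), (3, 3), (7, 7), (11, 11), (9, 9), (19, 19), (13, 13), (20, 20), (16, 16), (12, 12)],
   [(5, 5), (3, 3), (1, 1), (0, 0), (6, 6), (7, 7), (18, 18), (20, 20), (22, 22), (23, 23), (17, 17), (0, 17), (4, 4),
  (11, 11), (2, 2), (8, 8), (10, 10), (9, 9), (19, 19), (12, 12), (21, 21), (15, 15), (13, 13)],
   [(4, 4), (0, 0), (1, 1), (11, 11), (19, 19), (23, 23), (22, 22), (0, 19), (6, 6), (14, 14), (21, 21), (20, 20), (17,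
  17), (9, 9), (2, 2), (0, 20), (7, 7), (5, 5), (8, 8), (10, 10), (16, 16), (18, 18), (15, 15)]]

/-- closure steps from `a` -/
def sA (j : ℕ) : List (ℕ × ℕ) := sATab.getD j []

/-- closure steps from `b` -/
def sB (j : ℕ) : List (ℕ × ℕ) := sBTab.getD j []

theorem wJ_lt : ∀ j < 6, ∀ i ∈ wJ j, i < chevD4.rank := by decide +kernel

theorem WJ_eq : ∀ j < 6, ∀ s < chevD4.nroots, WJ j s = wact chevD4 (wJ j) (PJ j s) := by decide +kernel

theorem WJ_surj : ∀ j < 6, ∀ s < chevD4.nroots, ∃ s' < chevD4.nroots, WJ j s' = s := by decide +kernel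

theorem aJ_lt : ∀ j < 6, aJ j < chevD4.nroots ∧ aJ' j < chevD4.nroots ∧ bJ j < chevD4.nroots ∧
    bJ' j < chevD4.nroots := by decide +kernel

theorem WJ_aJ : ∀ j < 6, j ≠ 0 → WJ j (aJ' j) = aJ j ∧ WJ j (bJ' j) = bJ j := by decide +kernel

theorem PJ_aJ : ∀ i < 6, ∀ j < 6, PJ i (aJ j) = aJ j ∧ PJ i (aJ' j) = aJ' j := by decide +kernel

theorem run_sA : ∀ j < 6, j ≠ 0 → run chevD4 (WJ j) (1 <<< aJ j) (sA j) = 2 ^ chevD4.nroots - 1 := by decide +kernel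

theorem run_sB : ∀ j < 6, j ≠ 0 → run chevD4 (WJ j) (1 <<< bJ j) (sB j) = 2 ^ chevD4.nroots - 1 := by decide +kernel

theorem PJ_one : ∀ s < chevD4.nroots, PJ 0 s = s := by decide +kernel

/-- inverses of the symmetries -/
def iv (j : ℕ) : ℕ := ([0, 1, 2, 4, 3, 5] : List ℕ).getD j 0

/-- products of the symmetries -/
def mT (i j : ℕ) : ℕ := (([[0, 1, 2, 3, 4, 5], [1, 0, 4, 5, 2, 3], [2, 3, 0, 1, 5, 4], [3, 2, 5, 4, 0, 1], [4, 5, 1, 0, 3, 2], [5, 4, 3, 2, 1, 0]] : List (List ℕ)).getD i []).getD j 0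

theorem iv_lt : ∀ i < 6, iv i < 6 := by decide +kernel

theorem mT_lt : ∀ i < 6, ∀ j < 6, mT i j < 6 := by decide +kernel

theorem PJ_iv : ∀ i < 6, ∀ s < chevD4.nroots, PJ i (PJ (iv i) s) = s ∧ PJ (iv i) (PJ i s) = s := by decide +kernel

theorem PJ_mT : ∀ i < 6, ∀ j < 6, ∀ s < chevD4.nroots, PJ i (PJ j s) = PJ (mT i j) s := by decide +kernel

/-- the dual basis of `a`, `a'` -/
def n1 (j i : ℕ) : ℤ := ((if aJ j = 1 then [-1, 0, 0, 0] else [-1, -1, 0, 0] : List ℤ)).getD i 0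

/-- the dual basis of `a`, `a'` -/
def n2 (j i : ℕ) : ℤ := ((if aJ j = 1 then [-1, -1, 0, 0] else [-1, 0, 0, 0] : List ℤ)).getD i 0

theorem prs_a : ∀ j < 6, j ≠ 0 → prs chevD4 (n1 j) (aJ j) chevD4.rank = 1 ∧ prs chevD4 (n1 j) (aJ' j) chevD4.rank = 0 ∧
    prs chevD4 (n2 j) (aJ j) chevD4.rank = 0 ∧ prs chevD4 (n2 j) (aJ' j) chevD4.rank = 1 := by decide +kernel

/-- the root coefficients -/
def co (r i : ℕ) : ℤ := (dig MD4 chevD4.rank r i : ℤ) - 8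

theorem hco : RootCoeff chevD4 co := rootCoeff_of_chk (M := MD4) (by decide +kernel) (by decide +kernel) (by decide +kernel)

/-- the value of the character with exponents `n` -/
def En (n : ℕ → ℤ) (s : ℕ) : ℤ := n 0 * co s 0 + n 1 * co s 1 + n 2 * co s 2 + n 3 * co s 3

theorem En_bJ : ∀ j < 6, j ≠ 0 → (En (fun i => if i = 1 then 0 else 1) (bJ j) = 1 ∨
    En (fun i => if i = 1 then 0 else 1) (bJ j) = -1) ∧ (En (fun i => if i = 1 then 0 else 1) (bJ' j) = 1 ∨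
    En (fun i => if i = 1 then 0 else 1) (bJ' j) = -1) := by decide +kernel

/-- the words for the pairs inner-diagonal, inner-diagonal-field -/
def wK (r : ℕ) : List ℕ := ([[0, 1, 2], [0, 1, 2], [0, 1, 2], [0, 1, 3]] : List (List ℕ)).getD r []

/-- the permutations of the roots -/
def WKTab : List (List ℕ) :=
  [[6, 8, 18, 0, 7, 9, 11, 19, 1, 10, 21, 3, 20, 2, 13, 22, 4, 12, 14, 16, 23, 5, 15, 17],
   [6, 8, 18, 0, 7, 9, 11, 19, 1, 10, 21, 3, 20, 2, 13, 22, 4, 12, 14, 16, 23, 5, 15, 17],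
   [6, 8, 18, 0, 7, 9, 11, 19, 1, 10, 21, 3, 20, 2, 13, 22, 4, 12, 14, 16, 23, 5, 15, 17],
   [6, 7, 0, 18, 8, 9, 10, 1, 19, 11, 2, 20, 3, 21, 12, 4, 22, 13, 14, 15, 5, 23, 16, 17]]

/-- the permutations of the roots -/
def WK (r s : ℕ) : ℕ := (WKTab.getD r []).getD s 0

/-- the roots -/
def aK (r : ℕ) : ℕ := ([1, 0, 6, 6] : List ℕ).getD r 0

/-- the roots -/
def aK' (r : ℕ) : ℕ := ([8, 3, 0, 0] : List ℕ).getD r 0

/-- the roots -/
def bK (r : ℕ) : ℕ := ([12, 15, 15, 16] : List ℕ).getD r 0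

/-- the roots -/
def bK' (r : ℕ) : ℕ := ([17, 22, 22, 22] : List ℕ).getD r 0

/-- the exponents -/
def nK (r i : ℕ) : ℤ := (([[0, 1, 0, 0], [1, 0, 0, 0], [0, 0, 1, 0], [0, 0, 0, 1]] : List (List ℤ)).getD r []).getD i 0

/-- closure steps -/
def sKTab : List (List (ℕ × ℕ)) :=
  [[(1, 1), (17, 17), (12, 12), (20, 20), (1, 12), (2, 2), (18, 18), (14, 14), (1, 13), (3, 3), (0, 0), (6, 6), (0, 17),
  (4, 4), (7, 7), (19, 19), (1, 17), (5, 5), (9, 9), (10, 10), (2, 23), (15, 15)],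
   [(0, 0), (22, 22), (6, 6), (11, 11), (0, 15), (2, 2), (18, 18), (14, 14), (0, 14), (1, 1), (0, 22), (9, 9), (10, 10),
  (21, 21), (2, 13), (4, 4), (7, 7), (19, 19), (2, 22), (12, 12), (20, 20), (23, 23)],
   [(6, 6), (22, 22), (11, 11), (3, 3), (0, 15), (2, 2), (18, 18), (14, 14), (0, 14), (1, 1), (0, 22), (9, 9), (10, 10),
  (21, 21), (2, 13), (4, 4), (7, 7), (19, 19), (2, 22), (12, 12), (20, 20), (23, 23)],
   [(6, 6), (22, 22), (10, 10), (2, 2), (0, 16), (3, 3), (18, 18), (14, 14), (0, 14), (1, 1), (0, 22), (9, 9), (11, 11),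
  (20, 20), (3, 12), (4, 4), (8, 8), (19, 19), (3, 22), (13, 13), (21, 21), (23, 23)]]

/-- closure steps -/
def sK (r : ℕ) : List (ℕ × ℕ) := sKTab.getD r []

theorem wK_lt : ∀ r < 4, ∀ i ∈ wK r, i < chevD4.rank := by decide +kernel

theorem WK_eq : ∀ r < 4, ∀ s < chevD4.nroots, WK r s = wact chevD4 (wK r) s := by decide +kernel

theorem WK_surj : ∀ r < 4, ∀ s < chevD4.nroots, ∃ s' < chevD4.nroots, WK r s' = s := by decide +kernel

theorem aK_lt : ∀ r < 4, aK r < chevD4.nroots ∧ aK' r < chevD4.nroots ∧ bK r < chevD4.nroots ∧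
    bK' r < chevD4.nroots := by decide +kernel

theorem WK_aK : ∀ r < 4, WK r (aK' r) = aK r ∧ WK r (bK' r) = bK r := by decide +kernel

theorem En_K : ∀ r < 4, (En (nK r) (aK r) = 1 ∨ En (nK r) (aK r) = -1) ∧ (En (nK r) (aK' r) = 1 ∨ En (nK r) (aK' r) = -1) ∧
    En (nK r) (bK r) = 0 ∧ (En (nK r) (bK' r) = 1 ∨ En (nK r) (bK' r) = -1 ∨ En (nK r) (bK' r) = 2 ∨
      En (nK r) (bK' r) = -2) := by decide +kernel

theorem run_sK : ∀ r < 4, run chevD4 (WK r) ((1 <<< aK r) ||| (1 <<< bK' r)) (sK r) = 2 ^ chevD4.nroots - 1 := by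
  decide +kernel

end Cfsg.Agent.H237.D4C
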